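import Cfsg.Agent.Lib.Chev.MinGrp
import Cfsg.Agent.Lib.Chev.CTA2
import Cfsg.Agent.Lib.Orth.Spinor
import Cfsg.Agent.Lib.Twisted.AutE6D4

/-! The representation of degree 8 of the root system `D₄` and of `³D₄(q)`, `q` even. -/

namespace Cfsg.Lib.D4S

open Cfsg.Lib.Chev Cfsg.Lie Matrix RootSys

def f8 (n : ℕ) : Fin 8 := ⟨Nat.mod n 8, Nat.mod_lt _ (by decide)⟩
def f24 (n : ℕ) : Fin 24 := ⟨Nat.mod n 24, Nat.mod_lt _ (by decide)⟩

def srT : ℕ := 0x70600000000000700050000000700000003000000000700000400000700000000020007000000000001000000000006050000000006000003000000000006000400000006000000020000000005000300000000000005040000000003020000000000000400020000000005000000010000000300010000000000040000010000000002010000000000060000000000000005000000000000000300000000000000040000000000000002000000000000000100000000000000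
def sET : ℕ := 0x8080808080807f8180808080807f80818080807f80808081808080807f80808180807f8080808081807f80808080808180808080807f81808080807f80808180808080807f80818080807f80808081808080807f80818080808080807f81808080807f818080808080807f8081808080807f808080818080807f808180808080807f808081808080807f8180808080807f808080808081807f808080808180807f808081808080807f808080818080807f808180808080807f81808080808080
def kkT : ℕ := 0x161514130011100f0e0000000000000000000017000015140000001211000d0c0009000000000000000017000016001300001200100d00000b080000000000000017000016001300001200000f0c00000a070000000000001700000015140000120000000e000b0a0006000000000000161514130000000000000000000908070600000000001716000000000000100f000d0c00000000000504000000170015000000000011000e0d00000b0000000500030000170000140000000011000e000c00000a00000500000200170000001300000000100f0000000b0a000005000000010000001615000000111000000000000009080000000403000000160014000011000f000000000009000700000400020000150013000010000e0000000000080006000003000100000014130000000f0e00000000000007060000000201000000160000001200000d0c0000000807000000000400000000001500001200000d00000b00090006000000000300000000001400120000000c00000a0900060000000000020000000000131200000000000b0a0008070000000000000100000000000011100f0e0000000000000000000403020100000000000011000d0c0009000000050000030200000000000000000000100d00000b080000050000040001000000000000000000000f0c00000a070005000004000100000000000000000000000e000b0a0006050000000302000000000000000000000000000908070600040302010000000000000000000000000000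
def ccT : ℕ := 0x80808080808080808080808080807f7f7f7f8081818181808080808080808080807f80807f7f808080817f808181808180808080808080807f80807f8081808081807f7f80808181808080808080807f80807f808180808180807f7f808081818080808080807f80808081818080818080807f807f7f8081808080808080818181818080808080808080807f7f7f7f8080808080817f8080808080807f7f8081818080808080817f80808081807f80808080807f80817f80808180808081807f80808180807f808080807f8081807f80808180808180807f80818080807f8080808081818080807f7f8080818080807f808080817f808080817f808080808080817f808080817f80808081807f808081807f808080808081807f808081807f808081807f808081807f808080808081807f808081807f808080817f808080817f808080808080817f808080817f808080818080807f808081818080807f7f80808080818080807f808180807f80807f808081807f8081808080808180807f808081807f8080807f8080817f8081808080808081807f808080817f80808080807f7f808181808080808080817f8080808080818181818080808080808080807f7f7f7f8080808080807f80818180818080807f80807f7f808080818080808080807f7f8080818180807f80807f8081808081808080808080807f7f80808181807f80807f808180808180808080808080807f807f7f80817f8080808181808081808080808080808080807f7f7f7f80818181818080808080808080808080808080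
def mwT : ℕ := 0x8080807f80807f817f7f81807f818080817f808081817f808080817f80808081

/-- The root matrix of `r` has the entry `sE r x` at the place `(x, sr r x)`. -/
def sr (r : Fin 24) (x : Fin 8) : Fin 8 := f8 (t8 srT (Nat.add (Nat.mul 8 r) x))
def sE (r : Fin 24) (x : Fin 8) : ℤ := z8 sET (Nat.add (Nat.mul 8 r) x)
def kk (r s : Fin 24) : Fin 24 := f24 (t8 kkT (Nat.add (Nat.mul 24 r) s))
def cc (r s : Fin 24) : ℤ := z8 ccT (Nat.add (Nat.mul 24 r) s)
def mw (x : Fin 8) (i : Fin 4) : ℤ := z8 mwT (Nat.add (Nat.mul 4 x) i)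
def ng (r : Fin 24) : Fin 24 := f24 (ngN chevD4 r)

def rowOK (a b d : ℤ) (x y z : Fin 8) : Prop :=
  (a = 0 ∧ b = 0 ∧ d = 0) ∨ (a = b ∧ x = y ∧ d = 0) ∨ (b = 0 ∧ a = d ∧ x = z) ∨
    (a = 0 ∧ -b = d ∧ y = z)

instance dec_rowOK (a b d : ℤ) (x y z : Fin 8) : Decidable (rowOK a b d x y z) := by
  unfold rowOK; infer_instance

theorem sq_chk : ∀ r x, sE r x * sE r (sr r x) = 0 := by decide +kernel

theorem ne_chk : ∀ r, ∃ x, sE r x ≠ 0 := by decide +kernel

theorem wt_chk : ∀ r x, sE r x ≠ 0 → ∀ i, mw x i = mw (sr r x) i + caN chevD4 i r := by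
  decide +kernel

theorem car_chk : ∀ r x, (sE r x * sE (ng r) (sr r x) = 0 ∨ sr (ng r) (sr r x) = x) ∧
    (sE (ng r) x * sE r (sr (ng r) x) = 0 ∨ sr r (sr (ng r) x) = x) ∧
    sE r x * sE (ng r) (sr r x) - sE (ng r) x * sE r (sr (ng r) x) =
      sumTo 4 fun i => coN chevD4 r i * z8 mwT (Nat.add (Nat.mul 4 x) i) := by
  decide +kernel

theorem sum_chk : ∀ r s, cc r s ≠ 0 → ∀ i : Fin 4,
    aN chevD4 certD4 (kk r s) i = aN chevD4 certD4 r i + aN chevD4 certD4 s i := by
  decide +kernel

theorem pair_chk : ∀ r s : Fin 24, (sumTo 4 fun i => coN chevD4 r i * caN chevD4 i s) ≤ 2 := by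
  decide +kernel

theorem br_chk : ∀ r s, s ≠ ng r → ∀ x, rowOK (sE r x * sE s (sr r x)) (sE s x * sE r (sr s x))
    (cc r s * sE (kk r s) x) (sr s (sr r x)) (sr r (sr s x)) (sr (kk r s) x) := by
  decide +kernel

/-- The root system of type `D₄`. -/
noncomputable abbrev RE : RootSys (Fin 4) (Fin 24) := checkedD4.R

theorem pair_eq (i : Fin 4) (r : Fin 24) : RE.pair (RE.simple i) r = caN chevD4 i r :=
  ((caN_eq chevD4 i r).trans (checkedD4.cartan_eq i r)).symm

theorem co_eq (r : Fin 24) (i : Fin 4) : RE.co r i = coN chevD4 r i := rfl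

theorem neg_eq (r : Fin 24) : RE.neg r = ng r :=
  Fin.ext ((ngN_eq chevD4 r).symm.trans (Nat.mod_eq_of_lt
    ((ngN_eq chevD4 r).trans_lt (RE.neg r).2)).symm)

/-- A matrix with at most one entry in each row. -/
def mono {A : Type*} [Zero A] (s : Fin 8 → A) (p : Fin 8 → Fin 8) :
    Matrix (Fin 8) (Fin 8) A := Matrix.of fun x y => if y = p x then s x else 0

theorem mono_mul (s s' : Fin 8 → ℤ) (p p' : Fin 8 → Fin 8) :
    mono s p * mono s' p' = mono (fun x => s x * s' (p x)) fun x => p' (p x) := by
  ext x z
  rw [mul_apply, Finset.sum_eq_single (p x) (fun y _ hy => by simp [mono, hy]) (by simp)]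
  simp [mono]

def eM (r : Fin 24) : Matrix (Fin 8) (Fin 8) ℤ := mono (sE r) (sr r)

/-- The representation of degree 8. -/
noncomputable def rep : MinRep RE (Fin 8) where
  e := eM
  μ x s := ∑ i, RE.co s i * mw x i
  noG2 r s := by
    have := pair_chk r s
    rw [sumTo_eq] at this
    simpa only [RE.pair_eq_sum r s, pair_eq, co_eq] using this
  sq r := by
    rw [eM, mono_mul]
    ext x y
    simp [mono, sq_chk]
  ne r h := by
    obtain ⟨x, hx⟩ := ne_chk r
    exact hx (by simpa [eM, mono] using congrFun (congrFun h x) (sr r x))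
  wt r x y h s := by
    simp only [eM, mono, of_apply, ne_eq, ite_eq_right_iff, Classical.not_imp] at h
    obtain ⟨rfl, h⟩ := h
    simp only [RE.pair_eq_sum s r, pair_eq, ← Finset.sum_add_distrib, ← mul_add, ← wt_chk r x h]
  cartan r := by
    rw [neg_eq, eM, eM, mono_mul, mono_mul]
    ext x y
    obtain ⟨h1, h2, h3⟩ := car_chk r x
    rw [sumTo_eq] at h3
    rw [Matrix.sub_apply, diagonal_apply]
    simp only [mono, of_apply]
    by_cases h : x = y
    · subst h
      rw [if_pos rfl]
      refine Eq.trans ?_ h3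
      congr 1
      · rcases h1 with h1 | h1 <;> simp [h1]
      · rcases h2 with h2 | h2 <;> simp [h2]
    · rw [if_neg h]
      have e1 : (if y = sr (ng r) (sr r x) then sE r x * sE (ng r) (sr r x) else 0) = 0 := by
        rcases h1 with h1 | h1 <;> simp [h1, Ne.symm h]
      have e2 : (if y = sr r (sr (ng r) x) then sE (ng r) x * sE r (sr (ng r) x) else 0) = 0 := by
        rcases h2 with h2 | h2 <;> simp [h2, Ne.symm h]
      rw [e1, e2, sub_zero]
  br r s h := by
    rw [neg_eq] at h
    have key : eM r * eM s - eM s * eM r = cc r s • eM (kk r s) := by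
      rw [eM, eM, eM, mono_mul, mono_mul]
      ext x y
      rw [Matrix.sub_apply, Matrix.smul_apply, smul_eq_mul]
      simp only [mono, of_apply, mul_ite, mul_zero]
      rcases br_chk r s h x with ⟨h1, h2, h3⟩ | ⟨h1, h2, h3⟩ | ⟨h1, h2, h3⟩ | ⟨h1, h2, h3⟩
      · simp [h1, h2, h3]
      · simp [h1, h2, h3]
      · simp [h1, h2, h3]
      · simp only [h1, ← h2, h3, ite_self, zero_sub]
        split_ifs <;> simp
    by_cases hc : cc r s = 0
    · exact Or.inl (by rwa [hc, zero_smul, sub_eq_zero] at key)
    · exact Or.inr ⟨kk r s, cc r s, funext (sum_chk r s hc), key⟩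

variable {F : Type*} [Field F]

theorem xG_mulVec (r : Fin 24) (t : F) (v : Fin 8 → F) (x : Fin 8) :
    ((rep.xG F r t : Matrix (Fin 8) (Fin 8) F) *ᵥ v) x = v x + t * (sE r x * v (sr r x)) := by
  rw [MinRep.coe_xG, add_mulVec, one_mulVec, smul_mulVec, Pi.add_apply, Pi.smul_apply, smul_eq_mul,
    mulVec, dotProduct, Finset.sum_eq_single (sr r x) (fun y _ hy => by
      simp [MinRep.E_apply, rep, eM, mono, hy]) (by simp)]
  simp [MinRep.E_apply, rep, eM, mono]

theorem laced : RE.Laced := fun i j h => by
  rw [IsCartan.A_eq (n := 4) (R := RE) (isCartanD4 checkedD4)]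
  revert i j
  decide

/-- The quadratic form. -/
def Q8 (F : Type*) [Field F] : QuadraticForm F (Fin 8 → F) :=
  ∑ i : Fin 4, QuadraticMap.proj (Fin.castAdd 4 i) (Fin.rev (Fin.castAdd 4 i))

theorem Q8_apply (v : Fin 8 → F) :
    Q8 F v = v 0 * v 7 + v 1 * v 6 + v 2 * v 5 + v 3 * v 4 := by
  simp [Q8, Fin.sum_univ_four]

theorem nd_Q8 : Orth.ND (Q8 F) := by
  rw [Orth.nd_iff]
  intro x hx
  ext i
  have := hx (Pi.single i.rev 1)
  rw [QuadraticMap.polar, Q8_apply, Q8_apply, Q8_apply] at this
  fin_cases i <;> simpa [mul_add, add_mul] using this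

/-- The simple roots and their negatives. -/
noncomputable def rt (k : Fin 8) : Fin 24 :=
  if h : k.val < 4 then RE.simple ⟨k, h⟩ else RE.neg (RE.simple ⟨k - 4, by omega⟩)
def sV : Fin 8 → Fin 8 → ℤ := ![![1, 0, 0, 0, 0, 0, -1, 0],
  ![0, 1, 0, 0, 0, -1, 0, 0],
  ![0, 0, 1, 0, -1, 0, 0, 0],
  ![0, 0, 1, -1, 0, 0, 0, 0],
  ![0, 1, 0, 0, 0, 0, 0, -1],
  ![0, 0, 1, 0, 0, 0, -1, 0],
  ![0, 0, 0, 1, 0, -1, 0, 0],
  ![0, 0, 0, 0, 1, -1, 0, 0]]
def rV : Fin 8 → Fin 8 → Fin 8 := ![![1, 0, 0, 0, 0, 0, 7, 0],
  ![0, 2, 0, 0, 0, 6, 0, 0],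
  ![0, 0, 3, 0, 5, 0, 0, 0],
  ![0, 0, 4, 5, 0, 0, 0, 0],
  ![0, 0, 0, 0, 0, 0, 0, 6],
  ![0, 0, 1, 0, 0, 0, 5, 0],
  ![0, 0, 0, 2, 0, 4, 0, 0],
  ![0, 0, 0, 0, 2, 3, 0, 0]]

theorem tab_rt : ∀ k x, sE (rt k) x = sV k x ∧ sr (rt k) x = rV k x := by decide +kernel

theorem Q8_xG (k : Fin 8) (t : F) (v : Fin 8 → F) :
    Q8 F ((rep.xG F (rt k) t : Matrix (Fin 8) (Fin 8) F) *ᵥ v) = Q8 F v := by
  simp only [Q8_apply, xG_mulVec, (tab_rt _ _).1, (tab_rt _ _).2]
  fin_cases k <;> simp [sV, rV] <;> ring

open Cfsg.Lib.Twisted Module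

theorem exists_hom [CharP F 2] : ∃ φ : chevD4.group F →* Matrix (Fin 8) (Fin 8) F,
    (∀ k t, φ ((CD4 F).x (rt k) t) = rep.xG F (rt k) t) ∧
      ∀ g ∈ commutator (chevD4.group F), Even (φ g - 1).rank := by
  obtain ⟨φ, h1, h2⟩ := (checkedD4.gsys_faithful F).exists_hom_laced_sc (checkedD4.gsys_strongComm F)
    (checkedD4.gsys_adjoint F).hMul checkedD4.anti laced (checkedD4.gsys_grp F) (by
      rw [← MonoidHom.ker_eq_bot_iff, eq_bot_iff]
      refine fun c hc => funext fun i => Units.ext ?_
      have h : ∀ a, c (![(0 : Fin 4), 2] a) ^ 2 = 1 := (kerDataD4 checkedD4).pow_eq_one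
        ((checkedD4.gsys_adjoint F).hMul.ker_torus_le (checkedD4.gsys_faithful F) hc)
      have h' : ∀ a, c (![(0 : Fin 4), 2] a) = 1 := fun a => Units.ext (by
        have := congrArg Units.val (h a)
        rwa [Units.val_pow_eq_pow_val, Units.val_one, ← one_pow 2, ← frobenius_def, ← frobenius_def,
          (frobenius_inj F 2).eq_iff] at this)
      rw [(kerDataD4 checkedD4).eq_prod
        ((checkedD4.gsys_adjoint F).hMul.ker_torus_le (checkedD4.gsys_faithful F) hc) i]
      exact congrArg Units.val (Finset.prod_eq_one fun a _ => (congrArg (· ^ _) (h' a)).trans (_root_.one_zpow _)))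
    ((rep.hMul F).ctRels (rep.strongComm F) (MinRep.anti _) laced)
  have hx : ∀ k t, φ ((CD4 F).x (rt k) t) = rep.xG F (rt k) t := fun k t => by
    unfold rt
    split_ifs
    exacts [h1 _ t, h2 _ t]
  let ψ : GL (Fin 8) F →* ((Fin 8 → F) ≃ₗ[F] (Fin 8 → F)) :=
    (LinearMap.GeneralLinearGroup.generalLinearEquiv F _).toMonoidHom.comp Matrix.GeneralLinearGroup.toLin.toMonoidHom
  have hO : ∀ g, ψ (φ g) ∈ Orth.O (Q8 F) := fun g => by
    refine (CD4 F).grp_le_of_simple (K := (Orth.O (Q8 F)).comap (ψ.comp φ)) (fun i t v => ?_) (fun i t v => ?_)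
      ((checkedD4.gsys_grp F).ge (Subgroup.mem_top g))
    · have := Q8_xG (Fin.castAdd 4 i) t v
      rw [← hx, show rt (Fin.castAdd 4 i) = RE.simple i from dif_pos i.2] at this
      exact this
    · have := Q8_xG (Fin.natAdd 4 i) t v
      rw [← hx, show rt (Fin.natAdd 4 i) = RE.neg (RE.simple i) from (dif_neg (by simp)).trans (by simp)] at this
      exact this
  refine ⟨(Units.coeHom _).comp φ, fun k t => congrArg Units.val (hx k t), fun g hg => ?_⟩
  have := Abelianization.commutator_subset_ker ((Orth.dickson nd_Q8).comp ((ψ.comp φ).codRestrict _ hO)) hg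
  rw [MonoidHom.mem_ker, MonoidHom.comp_apply, Orth.dickson_eq_one_iff] at this
  rwa [Matrix.rank, show ((Units.coeHom _).comp φ g - 1).mulVecLin = (ψ (φ g) : _ →ₗ[F] _) - LinearMap.id from
    LinearMap.ext fun v => (sub_mulVec _ _ v).trans (congrArg _ (one_mulVec v))]

end Cfsg.Lib.D4S
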